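import Groth.Agent.Lib.RlimMod25.InjTower
import Groth.Agent.Lib.LimCoh25.Sheaf
import Groth.Agent.Lib.Cohom.InjModule
import Groth.Agent.Lib.SiteDer.ModGen
import Groth.Agent.Lib.RDerLES.LES
import Groth.Agent.Lib.SheafCoh.Top
import Groth.Agent.S6786
import Mathlib.CategoryTheory.Abelian.RightDerived

/-!
# Derived limits of towers of sheaves of modules
-/

universe u

set_option backward.isDefEq.respectTransparency false

open CategoryTheory Limits Opposite TopologicalSpace

namespace GrothLib.RlimMod25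

open GrothLib.SheafCoh

variable {X : TopCat.{u}} {R : Sheaf (Opens.grothendieckTopology X) RingCat.{u}}

theorem isFlasque_toSheaf_of_injective (I : SheafOfModules.{u} R) [Injective I] :
    TopCat.Sheaf.IsFlasque ((SheafOfModules.toSheaf R).obj I : CohTop.Ab X) :=
  ⟨fun i => (AddCommGrpCat.epi_iff_surjective _).2 (Cohom.mapSurjective_of_injective I i.unop)⟩

/-- Sections over an open of a sheaf of modules. -/
noncomputable abbrev sectF (R : Sheaf (Opens.grothendieckTopology X) RingCat.{u}) (V : Opens X) :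
    SheafOfModules.{u} R ⥤ AddCommGrpCat.{u} :=
  SheafOfModules.toSheaf R ⋙
    (sheafSections (Opens.grothendieckTopology X) AddCommGrpCat.{u}).obj (op V)

instance preservesLimits_sectF (V : Opens X) : PreservesLimitsOfShape ℕᵒᵖ (sectF R V) :=
  inferInstanceAs (PreservesLimitsOfShape ℕᵒᵖ (SheafOfModules.forget R ⋙
    PresheafOfModules.toPresheaf R.obj ⋙ (evaluation _ _).obj (op V)))

theorem acycOn_toSheaf_of_injective (B : Set (Opens X)) (I : SheafOfModules.{u} R) [Injective I] :
    LimCoh25.AcycOn B ((SheafOfModules.toSheaf R).obj I : CohTop.Ab X) := fun V _ i => by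
  have := isFlasque_toSheaf_of_injective I
  exact @Equiv.subsingleton _ _ (HUext (J := Opens.grothendieckTopology X)
    ((SheafOfModules.toSheaf R).obj I) (i + 1) V).symm.toEquiv
    (flasque_HU_subsingleton ((SheafOfModules.toSheaf R).obj I) i V)

theorem toSheaf_shortExact {S : ShortComplex (SheafOfModules.{u} R)} (hS : S.ShortExact) :
    (S.map (SheafOfModules.toSheaf R)).ShortExact := by
  have := SiteDer.preservesFiniteColimits_toSheaf R
  exact hS.map_of_exact (SheafOfModules.toSheaf R)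

/-- What a tower of modules needs in each level. -/
def Good (B : Set (Opens X)) (E : ℕᵒᵖ ⥤ SheafOfModules.{u} R) : Prop :=
  ∀ n : ℕ, LimCoh25.AcycOn B ((SheafOfModules.toSheaf R).obj (E.obj (op n)) : CohTop.Ab X)

/-- Mittag-Leffler on sections over the basis. -/
def MLOn (B : Set (Opens X)) (E : ℕᵒᵖ ⥤ SheafOfModules.{u} R) : Prop :=
  ∀ V ∈ B, ((E ⋙ sectF R V) ⋙ forget AddCommGrpCat.{u}).IsMittagLeffler

variable {S : ShortComplex (ℕᵒᵖ ⥤ SheafOfModules.{u} R)} (hS : S.ShortExact)
  (B : Set (Opens X))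

include hS in
theorem eval_shortExact (n : ℕ) :
    ((S.map ((evaluation _ _).obj (op n))).map (SheafOfModules.toSheaf R)).ShortExact :=
  toSheaf_shortExact (hS.map_of_exact ((evaluation ℕᵒᵖ (SheafOfModules.{u} R)).obj (op n)))

include hS in
theorem sections_surjective (h₁ : Good B S.X₁) {V : Opens X} (hV : V ∈ B) (n : ℕ) :
    Function.Surjective ((sectF R V).map (S.g.app (op n))) := by
  intro s
  let T := (S.map ((evaluation _ _).obj (op n))).map (SheafOfModules.toSheaf R)
  obtain ⟨g', hg'⟩ := surjective_of_subsingleton (eval_shortExact hS n) (h₁ n V hV 0)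
    ((homFreeY (J := Opens.grothendieckTopology X) T.X₃ V).symm s)
  refine ⟨homFreeY T.X₂ V g', ?_⟩
  change T.g.hom.app (op V) (homFreeY T.X₂ V g') = s
  rw [← homFreeY_comp, hg', AddEquiv.apply_symm_apply]

include hS in
theorem good_X₃ (h₁ : Good B S.X₁) (h₂ : Good B S.X₂) : Good B S.X₃ := fun n V hV i => by
  refine subsingleton_of_forall_eq 0 fun x => ?_
  obtain ⟨y, hy⟩ := Abelian.Ext.covariant_sequence_exact₃ _ (eval_shortExact hS n) x (n₁ := i + 2) (by omega)
    (@Subsingleton.elim _ (h₁ n V hV (i + 1)) _ _)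
  rw [← hy, @Subsingleton.elim _ (h₂ n V hV i) y 0, Abelian.Ext.zero_comp]

include hS in
theorem mlOn_X₃ (h₁ : Good B S.X₁) (h₂ : MLOn B S.X₂) : MLOn B S.X₃ := by
  rintro V hV ⟨j⟩
  obtain ⟨⟨i⟩, f, hf⟩ := h₂ V hV (op j)
  refine ⟨op i, f, ?_⟩
  rintro ⟨k⟩ g _ ⟨x, rfl⟩
  obtain ⟨y, rfl⟩ := sections_surjective hS B h₁ hV i x
  obtain ⟨y', hy'⟩ := hf g ⟨y, rfl⟩
  refine ⟨(sectF R V).map (S.g.app (op k)) y', ?_⟩
  refine (ConcreteCategory.congr_hom ((Functor.whiskerRight S.g (sectF R V)).naturality g) y').symm.trans ?_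
  refine (congrArg ((sectF R V).map (S.g.app (op j))) hy').trans ?_
  exact ConcreteCategory.congr_hom ((Functor.whiskerRight S.g (sectF R V)).naturality f) y

theorem mlOn_injective (I : ℕᵒᵖ ⥤ SheafOfModules.{u} R) [Injective I] : MLOn B I := by
  rintro V _ j
  refine ⟨j, 𝟙 j, fun k g => ?_⟩
  rintro _ ⟨x, rfl⟩
  obtain ⟨s, hs⟩ := exists_section I g
  refine ⟨(sectF R V).map s x, ?_⟩
  change ((sectF R V).map s ≫ (sectF R V).map (I.map g)) x = ((sectF R V).map (I.map (𝟙 j))) x
  rw [← Functor.map_comp, hs, I.map_id]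

theorem good_injective (I : ℕᵒᵖ ⥤ SheafOfModules.{u} R) [Injective I] : Good B I := fun n => by
  have := injective_eval I (op n)
  exact acycOn_toSheaf_of_injective B (I.obj (op n))

include hS in
theorem epi_lim_map (hB : Opens.IsBasis B) (h₁ : Good B S.X₁) (hML : MLOn B S.X₁) :
    Epi ((lim : (ℕᵒᵖ ⥤ SheafOfModules.{u} R) ⥤ SheafOfModules.{u} R).map S.g) := by
  refine (SheafOfModules.toSheaf R).epi_of_epi_map (LimCoh25.epi_of_basis _ hB fun V hV s => ?_)
  let v : S.X₂ ⋙ sectF R V ⟶ S.X₃ ⋙ sectF R V := Functor.whiskerRight S.g (sectF R V)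
  let w : S.X₁ ⋙ sectF R V ⟶ S.X₂ ⋙ sectF R V := Functor.whiskerRight S.f (sectF R V)
  have hker : ∀ (n : ℕ) (y : (S.X₂ ⋙ sectF R V).obj (op n)), v.app _ y = 0 →
      ∃ z, w.app _ z = y := fun n y hy => by
    have hS' := eval_shortExact hS n
    have := hS'.mono_f
    exact (ShortComplex.ab_exact_iff _).1 ((hS'.exact.map_of_mono_of_preservesKernel
      (sheafToPresheaf (Opens.grothendieckTopology X) AddCommGrpCat.{u}) inferInstance inferInstance).map
        ((evaluation _ _).obj (op V))) y hy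
  have hwv : ∀ (n : ℕ) z, v.app (op n) (w.app _ z) = 0 := fun n z =>
    ConcreteCategory.congr_hom (congrArg (fun t => (sheafToPresheaf _ _).map t |>.app (op V))
      ((S.map ((evaluation _ _).obj (op n))).map (SheafOfModules.toSheaf R)).zero) z |>.trans rfl
  have hlim : Function.Surjective (limMap v).hom := by
    refine Groth.Agent.S6786.limMap_surjective_of_ker v
      (fun i => sections_surjective hS B h₁ hV i.unop) fun n => ?_
    obtain ⟨⟨m⟩, f, hf⟩ := hML V hV (op n)
    refine ⟨m, f.unop.le, fun k hk y hy => ?_⟩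
    obtain ⟨z, rfl⟩ := hker m y hy
    obtain ⟨z', hz'⟩ := hf (homOfLE (f.unop.le.trans hk)).op ⟨z, rfl⟩
    refine ⟨w.app _ z', hwv k z', ?_⟩
    refine (ConcreteCategory.congr_hom (w.naturality (homOfLE (f.unop.le.trans hk)).op) z').symm.trans ?_
    exact (congrArg (w.app _) hz').trans
      (ConcreteCategory.congr_hom (w.naturality (homOfLE f.unop.le).op) z)
  let c₂ := isLimitOfPreserves (sectF R V) (limit.isLimit S.X₂)
  let c₃ := isLimitOfPreserves (sectF R V) (limit.isLimit S.X₃)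
  obtain ⟨y, hy⟩ := hlim ((c₃.conePointUniqueUpToIso (limit.isLimit _)).hom s)
  refine ⟨(c₂.conePointUniqueUpToIso (limit.isLimit _)).inv y, Concrete.isLimit_ext _ c₃ _ _ fun n => ?_⟩
  change (sectF R V).map (limit.π S.X₃ n) ((sectF R V).map (limMap S.g) _) =
    (sectF R V).map (limit.π S.X₃ n) s
  rw [← ConcreteCategory.comp_apply ((sectF R V).map (limMap S.g)), ← Functor.map_comp, limMap_π,
    Functor.map_comp, ConcreteCategory.comp_apply]
  refine (congrArg ((sectF R V).map (S.g.app n))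
    (ConcreteCategory.congr_hom (c₂.conePointUniqueUpToIso_inv_comp (limit.isLimit _) n) y)).trans ?_
  refine (ConcreteCategory.congr_hom (limMap_π v n) y).symm.trans ?_
  exact (congrArg (fun t => limit.π (S.X₃ ⋙ sectF R V) n t) hy).trans
    (ConcreteCategory.congr_hom (c₃.conePointUniqueUpToIso_hom_comp (limit.isLimit _) n) s)

variable [(lim : (ℕᵒᵖ ⥤ SheafOfModules.{u} R) ⥤ SheafOfModules.{u} R).Additive]
  [HasInjectiveResolutions (ℕᵒᵖ ⥤ SheafOfModules.{u} R)]

theorem isZero_rightDerived_lim (hB : Opens.IsBasis B) (i : ℕ) :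
    ∀ (E : ℕᵒᵖ ⥤ SheafOfModules.{u} R), Good B E → (i = 0 → MLOn B E) →
      IsZero (((lim : (ℕᵒᵖ ⥤ SheafOfModules.{u} R) ⥤ SheafOfModules.{u} R).rightDerived (i + 1)).obj E) := by
  let L : (ℕᵒᵖ ⥤ SheafOfModules.{u} R) ⥤ SheafOfModules.{u} R := lim
  have : PreservesLimitsOfSize.{0, 0} L := constLimAdj.rightAdjoint_preservesLimits
  have : PreservesFiniteLimits L := inferInstance
  obtain ⟨les⟩ := RDerLES.nonempty_derivedLES L
  have step : ∀ E : ℕᵒᵖ ⥤ SheafOfModules.{u} R, ∃ S : ShortComplex (ℕᵒᵖ ⥤ SheafOfModules.{u} R),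
      S.ShortExact ∧ S.X₁ = E ∧ Injective S.X₂ := fun E => by
    obtain ⟨⟨Res⟩⟩ : HasInjectiveResolution E := HasInjectiveResolutions.out E
    let ι : E ⟶ Res.cocomplex.X 0 := Res.ι.f 0
    have hm : Mono ι := inferInstanceAs (Mono (Res.ι.f 0))
    exact ⟨ShortComplex.mk ι (cokernel.π ι) (cokernel.condition ι),
      { exact := ShortComplex.exact_of_g_is_cokernel _ (cokernelIsCokernel ι),
        mono_f := hm, epi_g := inferInstanceAs (Epi (cokernel.π ι)) }, rfl, Res.injective 0⟩
  induction i with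
  | zero =>
    intro E hG hML
    obtain ⟨S, hS, rfl, hI⟩ := step E
    have h1 : IsZero ((L.rightDerived 1).obj S.X₂) := L.isZero_rightDerived_obj_injective_succ 0 _
    have : Epi (L.map S.g) := epi_lim_map hS B hB hG (hML rfl)
    have h0 : Epi ((L.rightDerived 0).map S.g) := by
      have e := L.rightDerivedZeroIsoSelf.hom.naturality S.g
      rw [← cancel_mono (L.rightDerivedZeroIsoSelf.inv.app S.X₃), Category.assoc,
        Iso.hom_inv_id_app, Category.comp_id] at e
      rw [e]
      infer_instance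
    have hδ : les.δ S hS 0 1 rfl = 0 := by
      rw [← cancel_epi ((L.rightDerived 0).map S.g), comp_zero]
      exact les.comp_δ S hS 0 1 rfl
    exact (les.exact₁ S hS 0 1 rfl).isZero_X₂ hδ (h1.eq_of_tgt _ _)
  | succ i ih =>
    intro E hG _
    obtain ⟨S, hS, rfl, hI⟩ := step E
    have hQ := good_X₃ hS B hG (good_injective B S.X₂)
    have hQ' : i = 0 → MLOn B S.X₃ := fun _ => mlOn_X₃ hS B hG (mlOn_injective B S.X₂)
    exact (les.exact₁ S hS (i + 1) (i + 2) rfl).isZero_X₂ ((ih _ hQ hQ').eq_of_src _ _)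
      ((L.isZero_rightDerived_obj_injective_succ (i + 1) _).eq_of_tgt _ _)

end GrothLib.RlimMod25
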