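import Mathlib.CategoryTheory.Adjunction.Evaluation
import Mathlib.CategoryTheory.Abelian.Basic
import Mathlib.CategoryTheory.Abelian.FunctorCategory
import Mathlib.CategoryTheory.Preadditive.Injective.Basic
import Mathlib.CategoryTheory.Limits.Shapes.Countable

/-!
# Injective inverse systems

An injective functor out of a thin category has injective values, and split epimorphisms as
transition maps in the case of inverse systems.
-/

set_option backward.isDefEq.respectTransparency false

open CategoryTheory Limits Opposite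

namespace GrothLib.RlimMod25

universe v u

variable {A : Type u} [Category.{v} A] [Abelian A] {C : Type} [SmallCategory C]
  [Quiver.IsThin C] [∀ a b : C, HasCoproductsOfShape (a ⟶ b) A]

variable (A) in
theorem isSplitMono_fold {c t : C} (M : A) :
    Mono (Sigma.desc (f := fun _ : c ⟶ t => M) (fun _ => 𝟙 M)) := by
  rcases isEmpty_or_nonempty (c ⟶ t) with h | h
  · exact ⟨fun a b _ => (IsZero.iff_id_eq_zero _).2 (Sigma.hom_ext _ _ fun g => (h.false g).elim) |>.eq_of_tgt a b⟩
  · obtain ⟨g⟩ := h
    exact @IsSplitMono.mono _ _ _ _ _ (IsSplitMono.mk' ⟨Sigma.ι (fun _ : c ⟶ t => M) g, Sigma.hom_ext _ _ fun g' => by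
      rw [Sigma.ι_desc_assoc, Category.id_comp, Category.comp_id, Subsingleton.elim g g']⟩)

instance preservesMono_evaluationLeftAdjoint (c : C) :
    (evaluationLeftAdjoint A c).PreservesMonomorphisms where
  preserves {M N} f _ := by
    refine @NatTrans.mono_of_mono_app _ _ _ _ _ _ _ fun t => ?_
    have := isSplitMono_fold A (c := c) (t := t) M
    have e : ((evaluationLeftAdjoint A c).map f).app t ≫ Sigma.desc (fun _ => 𝟙 N) =
        Sigma.desc (fun _ => 𝟙 M) ≫ f := Sigma.hom_ext _ _ fun g => by
      simp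
    exact @mono_of_mono_fac _ _ _ _ _ _ _ _ (@mono_comp _ _ _ _ _ (Sigma.desc fun _ : c ⟶ t => 𝟙 M) this f ‹Mono f›) e

theorem injective_eval (I : C ⥤ A) [Injective I] (c : C) : Injective (I.obj c) :=
  Injective.injective_of_adjoint (evaluationAdjunctionRight A c) I

/-- Precomposition on left adjoints of evaluations. -/
noncomputable def precompMap {c c' : C} (g : c' ⟶ c) (M : A) :
    (evaluationLeftAdjoint A c).obj M ⟶ (evaluationLeftAdjoint A c').obj M where
  app t := Sigma.desc fun h => Sigma.ι (fun _ => M) (g ≫ h)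
  naturality t t' k := Sigma.hom_ext _ _ fun h => by
    simp

theorem mono_precompMap {c c' : C} (g : c' ⟶ c) (M : A) : Mono (precompMap g M) := by
  refine @NatTrans.mono_of_mono_app _ _ _ _ _ _ _ fun t => ?_
  have := isSplitMono_fold A (c := c) (t := t) M
  have e : (precompMap g M).app t ≫ Sigma.desc (fun _ => 𝟙 M) = Sigma.desc (fun _ => 𝟙 M) :=
    Sigma.hom_ext _ _ fun h => by
      dsimp [precompMap]
      erw [Sigma.ι_desc_assoc, Sigma.ι_desc, Sigma.ι_desc]
  exact @mono_of_mono_fac _ _ _ _ _ _ _ _ this e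

/-- The transition maps of an injective functor out of a thin category are split epimorphisms. -/
theorem exists_section (I : C ⥤ A) [Injective I] {c c' : C} (g : c' ⟶ c) :
    ∃ s : I.obj c ⟶ I.obj c', s ≫ I.map g = 𝟙 _ := by
  have := mono_precompMap g (I.obj c)
  let φ : (evaluationLeftAdjoint A c).obj (I.obj c) ⟶ I :=
    ((evaluationAdjunctionRight A c).homEquiv _ _).symm (𝟙 _)
  let ψ := Injective.factorThru φ (precompMap g (I.obj c))
  have hψ : precompMap g (I.obj c) ≫ ψ = φ := Injective.comp_factorThru _ _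
  refine ⟨Sigma.ι (fun _ => I.obj c) (𝟙 c') ≫ ψ.app c', ?_⟩
  have hn := ψ.naturality g
  refine (Category.assoc _ _ _).trans ((congrArg (Sigma.ι (fun _ : c' ⟶ c' => I.obj c) (𝟙 c') ≫ ·) hn.symm).trans ?_)
  have h1 : Sigma.ι (fun _ : c' ⟶ c' => I.obj c) (𝟙 c') ≫
      ((evaluationLeftAdjoint A c').obj (I.obj c)).map g =
      Sigma.ι (fun _ : c ⟶ c => I.obj c) (𝟙 c) ≫ (precompMap g (I.obj c)).app c := by
    dsimp [precompMap]
    erw [Sigma.ι_desc, Sigma.ι_desc]
    rw [Category.id_comp, Category.comp_id]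
  refine (Category.assoc _ _ _).symm.trans ((congrArg (· ≫ ψ.app c) h1).trans ((Category.assoc _ _ _).trans ?_))
  refine (congrArg (fun t => Sigma.ι (fun _ : c ⟶ c => I.obj c) (𝟙 c) ≫ t.app c) hψ).trans ?_
  simp [φ, evaluationAdjunctionRight]

end GrothLib.RlimMod25
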